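import Cfsg.Agent.Lib.Helper56.ONJ1.Data

set_option autoImplicit false
set_option linter.unusedVariables false
set_option Elab.async false

namespace Cfsg.Agent.Lib.Helper56.ONJ1

open Cfsg.Spor.ON (Gen)
open Cfsg.Agent.Lib.Helper28 Cfsg.Agent.Lib.Helper28.TC Cfsg.Agent.Lib.Helper28.TC2 Cfsg.Agent.Lib.Helper28.ON122760

noncomputable section

theorem relP_blk208 : allRange (guard nn relP) 8 (208 * 2 ^ 8) = true := by decide +kernel
theorem relP_blk209 : allRange (guard nn relP) 8 (209 * 2 ^ 8) = true := by decide +kernel
theorem relP_blk210 : allRange (guard nn relP) 8 (210 * 2 ^ 8) = true := by decide +kernel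
theorem relP_blk211 : allRange (guard nn relP) 8 (211 * 2 ^ 8) = true := by decide +kernel
theorem relP_blk212 : allRange (guard nn relP) 8 (212 * 2 ^ 8) = true := by decide +kernel
theorem relP_blk213 : allRange (guard nn relP) 8 (213 * 2 ^ 8) = true := by decide +kernel
theorem relP_blk214 : allRange (guard nn relP) 8 (214 * 2 ^ 8) = true := by decide +kernel
theorem relP_blk215 : allRange (guard nn relP) 8 (215 * 2 ^ 8) = true := by decide +kernel
theorem relP_blk216 : allRange (guard nn relP) 8 (216 * 2 ^ 8) = true := by decide +kernel
theorem relP_blk217 : allRange (guard nn relP) 8 (217 * 2 ^ 8) = true := by decide +kernel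
theorem relP_blk218 : allRange (guard nn relP) 8 (218 * 2 ^ 8) = true := by decide +kernel
theorem relP_blk219 : allRange (guard nn relP) 8 (219 * 2 ^ 8) = true := by decide +kernel
theorem relP_blk220 : allRange (guard nn relP) 8 (220 * 2 ^ 8) = true := by decide +kernel
theorem relP_blk221 : allRange (guard nn relP) 8 (221 * 2 ^ 8) = true := by decide +kernel
theorem relP_blk222 : allRange (guard nn relP) 8 (222 * 2 ^ 8) = true := by decide +kernel
theorem relP_blk223 : allRange (guard nn relP) 8 (223 * 2 ^ 8) = true := by decide +kernel
theorem relP_f13 : ∀ k, 208 ≤ k → k < 224 → allRange (guard nn relP) 8 (k * 2 ^ 8) = true := by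
  intro k h1 h2
  interval_cases k
  · exact relP_blk208
  · exact relP_blk209
  · exact relP_blk210
  · exact relP_blk211
  · exact relP_blk212
  · exact relP_blk213
  · exact relP_blk214
  · exact relP_blk215
  · exact relP_blk216
  · exact relP_blk217
  · exact relP_blk218
  · exact relP_blk219
  · exact relP_blk220
  · exact relP_blk221
  · exact relP_blk222
  · exact relP_blk223

end

end Cfsg.Agent.Lib.Helper56.ONJ1
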