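import Cfsg.Agent.Lib.Helper56.ONJ1.Data

set_option autoImplicit false
set_option linter.unusedVariables false
set_option Elab.async false

namespace Cfsg.Agent.Lib.Helper56.ONJ1

open Cfsg.Spor.ON (Gen)
open Cfsg.Agent.Lib.Helper28 Cfsg.Agent.Lib.Helper28.TC Cfsg.Agent.Lib.Helper28.TC2 Cfsg.Agent.Lib.Helper28.ON122760

noncomputable section

theorem relP_blk288 : allRange (guard nn relP) 8 (288 * 2 ^ 8) = true := by decide +kernel
theorem relP_blk289 : allRange (guard nn relP) 8 (289 * 2 ^ 8) = true := by decide +kernel
theorem relP_blk290 : allRange (guard nn relP) 8 (290 * 2 ^ 8) = true := by decide +kernel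
theorem relP_blk291 : allRange (guard nn relP) 8 (291 * 2 ^ 8) = true := by decide +kernel
theorem relP_blk292 : allRange (guard nn relP) 8 (292 * 2 ^ 8) = true := by decide +kernel
theorem relP_blk293 : allRange (guard nn relP) 8 (293 * 2 ^ 8) = true := by decide +kernel
theorem relP_blk294 : allRange (guard nn relP) 8 (294 * 2 ^ 8) = true := by decide +kernel
theorem relP_blk295 : allRange (guard nn relP) 8 (295 * 2 ^ 8) = true := by decide +kernel
theorem relP_blk296 : allRange (guard nn relP) 8 (296 * 2 ^ 8) = true := by decide +kernel
theorem relP_blk297 : allRange (guard nn relP) 8 (297 * 2 ^ 8) = true := by decide +kernel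
theorem relP_blk298 : allRange (guard nn relP) 8 (298 * 2 ^ 8) = true := by decide +kernel
theorem relP_blk299 : allRange (guard nn relP) 8 (299 * 2 ^ 8) = true := by decide +kernel
theorem relP_blk300 : allRange (guard nn relP) 8 (300 * 2 ^ 8) = true := by decide +kernel
theorem relP_blk301 : allRange (guard nn relP) 8 (301 * 2 ^ 8) = true := by decide +kernel
theorem relP_blk302 : allRange (guard nn relP) 8 (302 * 2 ^ 8) = true := by decide +kernel
theorem relP_blk303 : allRange (guard nn relP) 8 (303 * 2 ^ 8) = true := by decide +kernel
theorem relP_f18 : ∀ k, 288 ≤ k → k < 304 → allRange (guard nn relP) 8 (k * 2 ^ 8) = true := by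
  intro k h1 h2
  interval_cases k
  · exact relP_blk288
  · exact relP_blk289
  · exact relP_blk290
  · exact relP_blk291
  · exact relP_blk292
  · exact relP_blk293
  · exact relP_blk294
  · exact relP_blk295
  · exact relP_blk296
  · exact relP_blk297
  · exact relP_blk298
  · exact relP_blk299
  · exact relP_blk300
  · exact relP_blk301
  · exact relP_blk302
  · exact relP_blk303

end

end Cfsg.Agent.Lib.Helper56.ONJ1
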