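import Cfsg.Agent.Lib.Helper56.ONJ1.Data

set_option autoImplicit false
set_option linter.unusedVariables false
set_option Elab.async false

namespace Cfsg.Agent.Lib.Helper56.ONJ1

open Cfsg.Spor.ON (Gen)
open Cfsg.Agent.Lib.Helper28 Cfsg.Agent.Lib.Helper28.TC Cfsg.Agent.Lib.Helper28.TC2 Cfsg.Agent.Lib.Helper28.ON122760

noncomputable section

theorem relP_blk400 : allRange (guard nn relP) 8 (400 * 2 ^ 8) = true := by decide +kernel
theorem relP_blk401 : allRange (guard nn relP) 8 (401 * 2 ^ 8) = true := by decide +kernel
theorem relP_blk402 : allRange (guard nn relP) 8 (402 * 2 ^ 8) = true := by decide +kernel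
theorem relP_blk403 : allRange (guard nn relP) 8 (403 * 2 ^ 8) = true := by decide +kernel
theorem relP_blk404 : allRange (guard nn relP) 8 (404 * 2 ^ 8) = true := by decide +kernel
theorem relP_blk405 : allRange (guard nn relP) 8 (405 * 2 ^ 8) = true := by decide +kernel
theorem relP_blk406 : allRange (guard nn relP) 8 (406 * 2 ^ 8) = true := by decide +kernel
theorem relP_blk407 : allRange (guard nn relP) 8 (407 * 2 ^ 8) = true := by decide +kernel
theorem relP_blk408 : allRange (guard nn relP) 8 (408 * 2 ^ 8) = true := by decide +kernel
theorem relP_blk409 : allRange (guard nn relP) 8 (409 * 2 ^ 8) = true := by decide +kernel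
theorem relP_blk410 : allRange (guard nn relP) 8 (410 * 2 ^ 8) = true := by decide +kernel
theorem relP_blk411 : allRange (guard nn relP) 8 (411 * 2 ^ 8) = true := by decide +kernel
theorem relP_blk412 : allRange (guard nn relP) 8 (412 * 2 ^ 8) = true := by decide +kernel
theorem relP_blk413 : allRange (guard nn relP) 8 (413 * 2 ^ 8) = true := by decide +kernel
theorem relP_blk414 : allRange (guard nn relP) 8 (414 * 2 ^ 8) = true := by decide +kernel
theorem relP_blk415 : allRange (guard nn relP) 8 (415 * 2 ^ 8) = true := by decide +kernel
theorem relP_f25 : ∀ k, 400 ≤ k → k < 416 → allRange (guard nn relP) 8 (k * 2 ^ 8) = true := by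
  intro k h1 h2
  interval_cases k
  · exact relP_blk400
  · exact relP_blk401
  · exact relP_blk402
  · exact relP_blk403
  · exact relP_blk404
  · exact relP_blk405
  · exact relP_blk406
  · exact relP_blk407
  · exact relP_blk408
  · exact relP_blk409
  · exact relP_blk410
  · exact relP_blk411
  · exact relP_blk412
  · exact relP_blk413
  · exact relP_blk414
  · exact relP_blk415

end

end Cfsg.Agent.Lib.Helper56.ONJ1
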