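import Cfsg.Agent.Lib.Helper56.ONJ1.Data

set_option autoImplicit false
set_option linter.unusedVariables false
set_option Elab.async false

namespace Cfsg.Agent.Lib.Helper56.ONJ1

open Cfsg.Spor.ON (Gen)
open Cfsg.Agent.Lib.Helper28 Cfsg.Agent.Lib.Helper28.TC Cfsg.Agent.Lib.Helper28.TC2 Cfsg.Agent.Lib.Helper28.ON122760

noncomputable section

theorem relP_blk416 : allRange (guard nn relP) 8 (416 * 2 ^ 8) = true := by decide +kernel
theorem relP_blk417 : allRange (guard nn relP) 8 (417 * 2 ^ 8) = true := by decide +kernel
theorem relP_blk418 : allRange (guard nn relP) 8 (418 * 2 ^ 8) = true := by decide +kernel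
theorem relP_blk419 : allRange (guard nn relP) 8 (419 * 2 ^ 8) = true := by decide +kernel
theorem relP_blk420 : allRange (guard nn relP) 8 (420 * 2 ^ 8) = true := by decide +kernel
theorem relP_blk421 : allRange (guard nn relP) 8 (421 * 2 ^ 8) = true := by decide +kernel
theorem relP_blk422 : allRange (guard nn relP) 8 (422 * 2 ^ 8) = true := by decide +kernel
theorem relP_blk423 : allRange (guard nn relP) 8 (423 * 2 ^ 8) = true := by decide +kernel
theorem relP_blk424 : allRange (guard nn relP) 8 (424 * 2 ^ 8) = true := by decide +kernel
theorem relP_blk425 : allRange (guard nn relP) 8 (425 * 2 ^ 8) = true := by decide +kernel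
theorem relP_blk426 : allRange (guard nn relP) 8 (426 * 2 ^ 8) = true := by decide +kernel
theorem relP_blk427 : allRange (guard nn relP) 8 (427 * 2 ^ 8) = true := by decide +kernel
theorem relP_blk428 : allRange (guard nn relP) 8 (428 * 2 ^ 8) = true := by decide +kernel
theorem relP_blk429 : allRange (guard nn relP) 8 (429 * 2 ^ 8) = true := by decide +kernel
theorem relP_blk430 : allRange (guard nn relP) 8 (430 * 2 ^ 8) = true := by decide +kernel
theorem relP_blk431 : allRange (guard nn relP) 8 (431 * 2 ^ 8) = true := by decide +kernel
theorem relP_f26 : ∀ k, 416 ≤ k → k < 432 → allRange (guard nn relP) 8 (k * 2 ^ 8) = true := by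
  intro k h1 h2
  interval_cases k
  · exact relP_blk416
  · exact relP_blk417
  · exact relP_blk418
  · exact relP_blk419
  · exact relP_blk420
  · exact relP_blk421
  · exact relP_blk422
  · exact relP_blk423
  · exact relP_blk424
  · exact relP_blk425
  · exact relP_blk426
  · exact relP_blk427
  · exact relP_blk428
  · exact relP_blk429
  · exact relP_blk430
  · exact relP_blk431

end

end Cfsg.Agent.Lib.Helper56.ONJ1
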