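import Cfsg.Agent.Lib.Helper56.ONJ1.Data

set_option autoImplicit false
set_option linter.unusedVariables false
set_option Elab.async false

namespace Cfsg.Agent.Lib.Helper56.ONJ1

open Cfsg.Spor.ON (Gen)
open Cfsg.Agent.Lib.Helper28 Cfsg.Agent.Lib.Helper28.TC Cfsg.Agent.Lib.Helper28.TC2 Cfsg.Agent.Lib.Helper28.ON122760

noncomputable section

theorem relP_blk64 : allRange (guard nn relP) 8 (64 * 2 ^ 8) = true := by decide +kernel
theorem relP_blk65 : allRange (guard nn relP) 8 (65 * 2 ^ 8) = true := by decide +kernel
theorem relP_blk66 : allRange (guard nn relP) 8 (66 * 2 ^ 8) = true := by decide +kernel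
theorem relP_blk67 : allRange (guard nn relP) 8 (67 * 2 ^ 8) = true := by decide +kernel
theorem relP_blk68 : allRange (guard nn relP) 8 (68 * 2 ^ 8) = true := by decide +kernel
theorem relP_blk69 : allRange (guard nn relP) 8 (69 * 2 ^ 8) = true := by decide +kernel
theorem relP_blk70 : allRange (guard nn relP) 8 (70 * 2 ^ 8) = true := by decide +kernel
theorem relP_blk71 : allRange (guard nn relP) 8 (71 * 2 ^ 8) = true := by decide +kernel
theorem relP_blk72 : allRange (guard nn relP) 8 (72 * 2 ^ 8) = true := by decide +kernel
theorem relP_blk73 : allRange (guard nn relP) 8 (73 * 2 ^ 8) = true := by decide +kernel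
theorem relP_blk74 : allRange (guard nn relP) 8 (74 * 2 ^ 8) = true := by decide +kernel
theorem relP_blk75 : allRange (guard nn relP) 8 (75 * 2 ^ 8) = true := by decide +kernel
theorem relP_blk76 : allRange (guard nn relP) 8 (76 * 2 ^ 8) = true := by decide +kernel
theorem relP_blk77 : allRange (guard nn relP) 8 (77 * 2 ^ 8) = true := by decide +kernel
theorem relP_blk78 : allRange (guard nn relP) 8 (78 * 2 ^ 8) = true := by decide +kernel
theorem relP_blk79 : allRange (guard nn relP) 8 (79 * 2 ^ 8) = true := by decide +kernel
theorem relP_f4 : ∀ k, 64 ≤ k → k < 80 → allRange (guard nn relP) 8 (k * 2 ^ 8) = true := by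
  intro k h1 h2
  interval_cases k
  · exact relP_blk64
  · exact relP_blk65
  · exact relP_blk66
  · exact relP_blk67
  · exact relP_blk68
  · exact relP_blk69
  · exact relP_blk70
  · exact relP_blk71
  · exact relP_blk72
  · exact relP_blk73
  · exact relP_blk74
  · exact relP_blk75
  · exact relP_blk76
  · exact relP_blk77
  · exact relP_blk78
  · exact relP_blk79

end

end Cfsg.Agent.Lib.Helper56.ONJ1
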