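import Cfsg.Agent.Lib.Helper56.ONJ1.Data

set_option autoImplicit false
set_option linter.unusedVariables false
set_option Elab.async false

namespace Cfsg.Agent.Lib.Helper56.ONJ1

open Cfsg.Spor.ON (Gen)
open Cfsg.Agent.Lib.Helper28 Cfsg.Agent.Lib.Helper28.TC Cfsg.Agent.Lib.Helper28.TC2 Cfsg.Agent.Lib.Helper28.ON122760

noncomputable section

theorem relP_blk96 : allRange (guard nn relP) 8 (96 * 2 ^ 8) = true := by decide +kernel
theorem relP_blk97 : allRange (guard nn relP) 8 (97 * 2 ^ 8) = true := by decide +kernel
theorem relP_blk98 : allRange (guard nn relP) 8 (98 * 2 ^ 8) = true := by decide +kernel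
theorem relP_blk99 : allRange (guard nn relP) 8 (99 * 2 ^ 8) = true := by decide +kernel
theorem relP_blk100 : allRange (guard nn relP) 8 (100 * 2 ^ 8) = true := by decide +kernel
theorem relP_blk101 : allRange (guard nn relP) 8 (101 * 2 ^ 8) = true := by decide +kernel
theorem relP_blk102 : allRange (guard nn relP) 8 (102 * 2 ^ 8) = true := by decide +kernel
theorem relP_blk103 : allRange (guard nn relP) 8 (103 * 2 ^ 8) = true := by decide +kernel
theorem relP_blk104 : allRange (guard nn relP) 8 (104 * 2 ^ 8) = true := by decide +kernel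
theorem relP_blk105 : allRange (guard nn relP) 8 (105 * 2 ^ 8) = true := by decide +kernel
theorem relP_blk106 : allRange (guard nn relP) 8 (106 * 2 ^ 8) = true := by decide +kernel
theorem relP_blk107 : allRange (guard nn relP) 8 (107 * 2 ^ 8) = true := by decide +kernel
theorem relP_blk108 : allRange (guard nn relP) 8 (108 * 2 ^ 8) = true := by decide +kernel
theorem relP_blk109 : allRange (guard nn relP) 8 (109 * 2 ^ 8) = true := by decide +kernel
theorem relP_blk110 : allRange (guard nn relP) 8 (110 * 2 ^ 8) = true := by decide +kernel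
theorem relP_blk111 : allRange (guard nn relP) 8 (111 * 2 ^ 8) = true := by decide +kernel
theorem relP_f6 : ∀ k, 96 ≤ k → k < 112 → allRange (guard nn relP) 8 (k * 2 ^ 8) = true := by
  intro k h1 h2
  interval_cases k
  · exact relP_blk96
  · exact relP_blk97
  · exact relP_blk98
  · exact relP_blk99
  · exact relP_blk100
  · exact relP_blk101
  · exact relP_blk102
  · exact relP_blk103
  · exact relP_blk104
  · exact relP_blk105
  · exact relP_blk106
  · exact relP_blk107
  · exact relP_blk108
  · exact relP_blk109
  · exact relP_blk110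
  · exact relP_blk111

end

end Cfsg.Agent.Lib.Helper56.ONJ1
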