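import Cfsg.Agent.Lib.Helper56.ONJ1.ChkR0
import Cfsg.Agent.Lib.Helper56.ONJ1.ChkR1
import Cfsg.Agent.Lib.Helper56.ONJ1.ChkR2
import Cfsg.Agent.Lib.Helper56.ONJ1.ChkR3
import Cfsg.Agent.Lib.Helper56.ONJ1.ChkR4
import Cfsg.Agent.Lib.Helper56.ONJ1.ChkR5
import Cfsg.Agent.Lib.Helper56.ONJ1.ChkR6
import Cfsg.Agent.Lib.Helper56.ONJ1.ChkR7
import Cfsg.Agent.Lib.Helper56.ONJ1.ChkR8
import Cfsg.Agent.Lib.Helper56.ONJ1.ChkR9
import Cfsg.Agent.Lib.Helper56.ONJ1.ChkR10
import Cfsg.Agent.Lib.Helper56.ONJ1.ChkR11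
import Cfsg.Agent.Lib.Helper56.ONJ1.ChkR12
import Cfsg.Agent.Lib.Helper56.ONJ1.ChkR13
import Cfsg.Agent.Lib.Helper56.ONJ1.ChkR14
import Cfsg.Agent.Lib.Helper56.ONJ1.ChkR15
import Cfsg.Agent.Lib.Helper56.ONJ1.ChkR16
import Cfsg.Agent.Lib.Helper56.ONJ1.ChkR17
import Cfsg.Agent.Lib.Helper56.ONJ1.ChkR18
import Cfsg.Agent.Lib.Helper56.ONJ1.ChkR19
import Cfsg.Agent.Lib.Helper56.ONJ1.ChkR20
import Cfsg.Agent.Lib.Helper56.ONJ1.ChkR21
import Cfsg.Agent.Lib.Helper56.ONJ1.ChkR22
import Cfsg.Agent.Lib.Helper56.ONJ1.ChkR23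
import Cfsg.Agent.Lib.Helper56.ONJ1.ChkR24
import Cfsg.Agent.Lib.Helper56.ONJ1.ChkR25
import Cfsg.Agent.Lib.Helper56.ONJ1.ChkR26
import Cfsg.Agent.Lib.Helper56.ONJ1.ChkR27
import Cfsg.Agent.Lib.Helper56.ONJ1.ChkR28
import Cfsg.Agent.Lib.Helper56.ONJ1.ChkR29

set_option autoImplicit false
set_option linter.unusedVariables false

namespace Cfsg.Agent.Lib.Helper56.ONJ1

open Cfsg.Spor.ON (Gen)
open Cfsg.Agent.Lib.Helper28 Cfsg.Agent.Lib.Helper28.TC Cfsg.Agent.Lib.Helper28.TC2 Cfsg.Agent.Lib.Helper28.ON122760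

noncomputable section

theorem relP_allk : ∀ k, k < 480 → allRange (guard nn relP) 8 (k * 2 ^ 8) = true := by
  intro k hk
  by_cases h0 : k < 16
  · exact relP_f0 k (by omega) h0
  by_cases h1 : k < 32
  · exact relP_f1 k (by omega) h1
  by_cases h2 : k < 48
  · exact relP_f2 k (by omega) h2
  by_cases h3 : k < 64
  · exact relP_f3 k (by omega) h3
  by_cases h4 : k < 80
  · exact relP_f4 k (by omega) h4
  by_cases h5 : k < 96
  · exact relP_f5 k (by omega) h5
  by_cases h6 : k < 112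
  · exact relP_f6 k (by omega) h6
  by_cases h7 : k < 128
  · exact relP_f7 k (by omega) h7
  by_cases h8 : k < 144
  · exact relP_f8 k (by omega) h8
  by_cases h9 : k < 160
  · exact relP_f9 k (by omega) h9
  by_cases h10 : k < 176
  · exact relP_f10 k (by omega) h10
  by_cases h11 : k < 192
  · exact relP_f11 k (by omega) h11
  by_cases h12 : k < 208
  · exact relP_f12 k (by omega) h12
  by_cases h13 : k < 224
  · exact relP_f13 k (by omega) h13
  by_cases h14 : k < 240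
  · exact relP_f14 k (by omega) h14
  by_cases h15 : k < 256
  · exact relP_f15 k (by omega) h15
  by_cases h16 : k < 272
  · exact relP_f16 k (by omega) h16
  by_cases h17 : k < 288
  · exact relP_f17 k (by omega) h17
  by_cases h18 : k < 304
  · exact relP_f18 k (by omega) h18
  by_cases h19 : k < 320
  · exact relP_f19 k (by omega) h19
  by_cases h20 : k < 336
  · exact relP_f20 k (by omega) h20
  by_cases h21 : k < 352
  · exact relP_f21 k (by omega) h21
  by_cases h22 : k < 368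
  · exact relP_f22 k (by omega) h22
  by_cases h23 : k < 384
  · exact relP_f23 k (by omega) h23
  by_cases h24 : k < 400
  · exact relP_f24 k (by omega) h24
  by_cases h25 : k < 416
  · exact relP_f25 k (by omega) h25
  by_cases h26 : k < 432
  · exact relP_f26 k (by omega) h26
  by_cases h27 : k < 448
  · exact relP_f27 k (by omega) h27
  by_cases h28 : k < 464
  · exact relP_f28 k (by omega) h28
  exact relP_f29 k (by omega) hk
theorem relP_all : ∀ i, i < nn → relP i = true :=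
  all_of_blocks nn relP 8 480 (by decide) relP_allk

end

end Cfsg.Agent.Lib.Helper56.ONJ1
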