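import Cfsg.Agent.Lib.Helper56.ONJ1.Data

set_option autoImplicit false
set_option linter.unusedVariables false
set_option Elab.async false

namespace Cfsg.Agent.Lib.Helper56.ONJ1

open Cfsg.Spor.ON (Gen)
open Cfsg.Agent.Lib.Helper28 Cfsg.Agent.Lib.Helper28.TC Cfsg.Agent.Lib.Helper28.TC2 Cfsg.Agent.Lib.Helper28.ON122760

noncomputable section

theorem relP_blk0 : allRange (guard nn relP) 8 (0 * 2 ^ 8) = true := by decide +kernel
theorem relP_blk1 : allRange (guard nn relP) 8 (1 * 2 ^ 8) = true := by decide +kernel
theorem relP_blk2 : allRange (guard nn relP) 8 (2 * 2 ^ 8) = true := by decide +kernel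
theorem relP_blk3 : allRange (guard nn relP) 8 (3 * 2 ^ 8) = true := by decide +kernel
theorem relP_blk4 : allRange (guard nn relP) 8 (4 * 2 ^ 8) = true := by decide +kernel
theorem relP_blk5 : allRange (guard nn relP) 8 (5 * 2 ^ 8) = true := by decide +kernel
theorem relP_blk6 : allRange (guard nn relP) 8 (6 * 2 ^ 8) = true := by decide +kernel
theorem relP_blk7 : allRange (guard nn relP) 8 (7 * 2 ^ 8) = true := by decide +kernel
theorem relP_blk8 : allRange (guard nn relP) 8 (8 * 2 ^ 8) = true := by decide +kernel
theorem relP_blk9 : allRange (guard nn relP) 8 (9 * 2 ^ 8) = true := by decide +kernel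
theorem relP_blk10 : allRange (guard nn relP) 8 (10 * 2 ^ 8) = true := by decide +kernel
theorem relP_blk11 : allRange (guard nn relP) 8 (11 * 2 ^ 8) = true := by decide +kernel
theorem relP_blk12 : allRange (guard nn relP) 8 (12 * 2 ^ 8) = true := by decide +kernel
theorem relP_blk13 : allRange (guard nn relP) 8 (13 * 2 ^ 8) = true := by decide +kernel
theorem relP_blk14 : allRange (guard nn relP) 8 (14 * 2 ^ 8) = true := by decide +kernel
theorem relP_blk15 : allRange (guard nn relP) 8 (15 * 2 ^ 8) = true := by decide +kernel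
theorem relP_f0 : ∀ k, 0 ≤ k → k < 16 → allRange (guard nn relP) 8 (k * 2 ^ 8) = true := by
  intro k h1 h2
  interval_cases k
  · exact relP_blk0
  · exact relP_blk1
  · exact relP_blk2
  · exact relP_blk3
  · exact relP_blk4
  · exact relP_blk5
  · exact relP_blk6
  · exact relP_blk7
  · exact relP_blk8
  · exact relP_blk9
  · exact relP_blk10
  · exact relP_blk11
  · exact relP_blk12
  · exact relP_blk13
  · exact relP_blk14
  · exact relP_blk15

end

end Cfsg.Agent.Lib.Helper56.ONJ1
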