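import Cfsg.Agent.Lib.Helper56.ONJ1.Data

set_option autoImplicit false
set_option linter.unusedVariables false
set_option Elab.async false

namespace Cfsg.Agent.Lib.Helper56.ONJ1

open Cfsg.Spor.ON (Gen)
open Cfsg.Agent.Lib.Helper28 Cfsg.Agent.Lib.Helper28.TC Cfsg.Agent.Lib.Helper28.TC2 Cfsg.Agent.Lib.Helper28.ON122760

noncomputable section

theorem relP_blk176 : allRange (guard nn relP) 8 (176 * 2 ^ 8) = true := by decide +kernel
theorem relP_blk177 : allRange (guard nn relP) 8 (177 * 2 ^ 8) = true := by decide +kernel
theorem relP_blk178 : allRange (guard nn relP) 8 (178 * 2 ^ 8) = true := by decide +kernel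
theorem relP_blk179 : allRange (guard nn relP) 8 (179 * 2 ^ 8) = true := by decide +kernel
theorem relP_blk180 : allRange (guard nn relP) 8 (180 * 2 ^ 8) = true := by decide +kernel
theorem relP_blk181 : allRange (guard nn relP) 8 (181 * 2 ^ 8) = true := by decide +kernel
theorem relP_blk182 : allRange (guard nn relP) 8 (182 * 2 ^ 8) = true := by decide +kernel
theorem relP_blk183 : allRange (guard nn relP) 8 (183 * 2 ^ 8) = true := by decide +kernel
theorem relP_blk184 : allRange (guard nn relP) 8 (184 * 2 ^ 8) = true := by decide +kernel
theorem relP_blk185 : allRange (guard nn relP) 8 (185 * 2 ^ 8) = true := by decide +kernel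
theorem relP_blk186 : allRange (guard nn relP) 8 (186 * 2 ^ 8) = true := by decide +kernel
theorem relP_blk187 : allRange (guard nn relP) 8 (187 * 2 ^ 8) = true := by decide +kernel
theorem relP_blk188 : allRange (guard nn relP) 8 (188 * 2 ^ 8) = true := by decide +kernel
theorem relP_blk189 : allRange (guard nn relP) 8 (189 * 2 ^ 8) = true := by decide +kernel
theorem relP_blk190 : allRange (guard nn relP) 8 (190 * 2 ^ 8) = true := by decide +kernel
theorem relP_blk191 : allRange (guard nn relP) 8 (191 * 2 ^ 8) = true := by decide +kernel
theorem relP_f11 : ∀ k, 176 ≤ k → k < 192 → allRange (guard nn relP) 8 (k * 2 ^ 8) = true := by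
  intro k h1 h2
  interval_cases k
  · exact relP_blk176
  · exact relP_blk177
  · exact relP_blk178
  · exact relP_blk179
  · exact relP_blk180
  · exact relP_blk181
  · exact relP_blk182
  · exact relP_blk183
  · exact relP_blk184
  · exact relP_blk185
  · exact relP_blk186
  · exact relP_blk187
  · exact relP_blk188
  · exact relP_blk189
  · exact relP_blk190
  · exact relP_blk191

end

end Cfsg.Agent.Lib.Helper56.ONJ1
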