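/-
The presented O'Nan group contains a copy of the presented group `J1Q` (the Janko group `J₁`, simple
of order 175560), by helper56.

The three involutions `p = g⁻¹bdcdedcdbg`, `q = p ^ ((bc p)^3 cb)`, `r = p ^ (bc)` satisfy the
relators of the presentation `J1Q` (checked in the faithful permutation representation on 122760
points, through tables of the auxiliary elements `X = p`, `y = bc`, `z = cb`).
-/
import Cfsg.Agent.Lib.Helper56.ONJ1.ChkAll
import Cfsg.Agent.Lib.Helper56.ONPerm.Main
import Cfsg.Agent.Lib.Helper56.J1Perm.Main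

set_option autoImplicit false

namespace Cfsg.Agent.Lib.Helper56.ONJ1

open Cfsg.Agent.Lib.Helper28 Cfsg.Agent.Lib.Helper28.TC Cfsg.Agent.Lib.Helper28.TC2
open Cfsg.Agent.Lib.Helper28.ON122760 Cfsg.Agent.Lib.Helper56.PresHom
open Cfsg.Spor.ON (Gen)

/-- the presented O'Nan group -/
abbrev ONG : Type := PresentedGroup ON122760.rels

/-- the presented group `J1Q` -/
abbrev Q : Type := PresentedGroup J1Q.rels

/-- the words of the generators of `J1Q` in the letters of the O'Nan group -/
def sub (x : J1Q.Gen) : List Ltr := (subB x).flatMap subA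

/-- the images of the generators of `J1Q` in the O'Nan group -/
noncomputable def valQ (x : J1Q.Gen) : ONG := wval ON122760.val (sub x)

theorem wval_valQ (w : List J1Q.Gen) :
    wval valQ w = wval ON122760.val (w.flatMap sub) := by
  induction w with
  | nil => rfl
  | cons x w ih =>
    rw [wval_cons, ih, List.flatMap_cons, wval_append]
    rfl

theorem relP_spec (i : ℕ) (hi : i < nn) :
    (∀ a, tauA a i = act tf (subA a) i) ∧ (∀ x, tauQ x i = act tauA (subB x) i) ∧
      ∀ w ∈ J1Q.relWords, act tauQ w i = i := by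
  have h := relP_all i hi
  unfold relP at h
  rw [band_eq_true, band_eq_true] at h
  refine ⟨fun a => ?_, fun x => ?_, fun w hw => relRowOK_spec tauQ J1Q.relWords i h.2.2 w hw⟩
  · exact nbeq_eq_true.1 (allList_spec _ _ h.1 a (mem_auxs a))
  · exact nbeq_eq_true.1 (allList_spec _ _ h.2.1 x (J1Q.mem_gens x))

theorem act_tauA (w : List Aux) : ∀ i, i < nn →
    act tauA w i = act tf (w.flatMap subA) i := by
  induction w with
  | nil => intro i _; rfl
  | cons x w ih =>
    intro i hi
    have hlt : act tf (w.flatMap subA) i < nn := T.act_lt _ i hi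
    rw [act_cons, ih i hi, (relP_spec _ hlt).1 x, List.flatMap_cons, act_append]

theorem tauQ_eq (x : J1Q.Gen) (i : ℕ) (hi : i < nn) : tauQ x i = act tf (sub x) i := by
  rw [(relP_spec i hi).2.1 x, act_tauA _ i hi]
  rfl

theorem act_tau (w : List J1Q.Gen) : ∀ i, i < nn →
    act tauQ w i = act tf (w.flatMap sub) i := by
  induction w with
  | nil => intro i _; rfl
  | cons x w ih =>
    intro i hi
    have hlt : act tf (w.flatMap sub) i < nn := T.act_lt _ i hi
    rw [act_cons, ih i hi, tauQ_eq x _ hlt, List.flatMap_cons, act_append]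

theorem rel_act : ∀ w ∈ J1Q.relWords, ∀ i, i < nn → act tf (w.flatMap sub) i = i := by
  intro w hw i hi
  rw [← act_tau w i hi]
  exact (relP_spec i hi).2.2 w hw

theorem rel_val : ∀ e ∈ J1Q.relE, wval valQ e.evalW = 1 := by
  intro e he
  rw [wval_valQ]
  exact ONPerm.wval_eq_one_of_act _ (rel_act _ (J1Q.relE_words e he))

theorem valQ_sq (x : J1Q.Gen) : valQ x * valQ x = 1 := by
  have h := rel_val (WE.mul (WE.of x) (WE.of x))
    (List.mem_append_left _ (List.mem_map_of_mem (J1Q.mem_gens x)))
  simpa [WE.evalW, wval] using h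

theorem exists_φ : ∃ φ : Q →* ONG, ∀ x, φ (PresentedGroup.of x) = valQ x :=
  exists_hom_to J1Q.relE valQ valQ_sq rel_val

theorem valQ_p_ne_one : valQ J1Q.Gen.p ≠ 1 := by
  intro h
  have h1 : ONPerm.π (valQ J1Q.Gen.p) = 1 := by rw [h, map_one]
  have h2 : ONPerm.wp (sub J1Q.Gen.p) = 1 := by
    rw [← ONPerm.π_wval]
    exact h1
  have h3 := ONPerm.wp_apply (sub J1Q.Gen.p) ⟨2, by decide⟩
  rw [h2] at h3
  revert h3
  decide +kernel

end Cfsg.Agent.Lib.Helper56.ONJ1
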